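import Groth.Agent.BlowBundleLib.Local

/-!
# The two charts and the map between their rings
-/

set_option autoImplicit false
set_option linter.style.haveILetI false
set_option backward.isDefEq.respectTransparency false

universe u

open CategoryTheory CategoryTheory.Limits AlgebraicGeometry TopologicalSpace Opposite
open Groth.Agent.ParaFLib Groth.Agent.ProjBundleLib Groth.Agent.BlowChartLib

noncomputable section

namespace Groth.Agent.BlowBundleLib

/-- The chart of the blow-up is the spectrum of the affine blow-up algebra. -/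
theorem exists_chart_ring {X X' : Scheme.{u}} (J : X.IdealSheafData) (U : X.affineOpens) (a : Γ(X, U.1))
    (f : X' ⟶ X) (ha : a ∈ J.ideal U) (hf : BlowUp.IsBlowUp f J) :
    ∃ (hC : IsAffineOpen (chartOpen J U a f)) (hle : chartOpen J U a f ≤ f ⁻¹ᵁ U.1)
      (ε : ChartAlg J U a ≃+* Γ(X', chartOpen J U a f)),
      ∀ r, ε (algebraMap Γ(X, U.1) (ChartAlg J U a) r) = f.appLE U.1 (chartOpen J U a f) hle r := by
  obtain ⟨e, he⟩ := isOpenImmersion_hom J U a f ha hf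
  let C := chartOpen J U a f
  have hC : IsAffineOpen C := IsAffine.of_isIso e.hom
  have hle : C ≤ f ⁻¹ᵁ U.1 := iSup_le fun V => V.2.choose
  have h1 : (⊤ : C.toScheme.Opens) ≤ e.hom ⁻¹ᵁ ⊤ := le_rfl
  let φ : CommRingCat.of (ChartAlg J U a) ⟶ Γ(X', C) :=
    (Scheme.ΓSpecIso (CommRingCat.of (ChartAlg J U a))).inv ≫ e.hom.appLE ⊤ ⊤ h1 ≫ C.topIso.hom
  haveI : IsIso (e.hom.appLE ⊤ ⊤ h1) := by
    have : e.hom.appLE ⊤ ⊤ h1 = e.hom.app ⊤ := Scheme.Hom.appLE_eq_app _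
    rw [this]; infer_instance
  haveI : IsIso φ := inferInstance
  refine ⟨hC, hle, (asIso φ).commRingCatIsoToRingEquiv, fun r => ?_⟩
  show φ (algebraMap Γ(X, U.1) (ChartAlg J U a) r) = _
  show C.topIso.hom (e.hom.appLE ⊤ ⊤ h1
    ((Scheme.ΓSpecIso (CommRingCat.of (ChartAlg J U a))).inv (algebraMap Γ(X, U.1) (ChartAlg J U a) r))) = _
  rw [← appLE_chartMap J U a r, ← CommRingCat.comp_apply ((chartMap J U a).appLE _ _ _), Scheme.Hom.appLE_comp_appLE]
  have h2 : (⊤ : C.toScheme.Opens) ≤ (C.ι ≫ f) ⁻¹ᵁ U.1 := fun y _ => hle y.2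
  have h3 : ∀ (g g' : C.toScheme ⟶ X) (h : g = g') (k : (⊤ : C.toScheme.Opens) ≤ g ⁻¹ᵁ U.1)
      (k' : (⊤ : C.toScheme.Opens) ≤ g' ⁻¹ᵁ U.1), g.appLE U.1 ⊤ k = g'.appLE U.1 ⊤ k' := by
    rintro g _ rfl k k'; rfl
  rw [h3 _ _ he _ h2]
  have h4 : (⊤ : C.toScheme.Opens) ≤ C.ι ⁻¹ᵁ C := fun y _ => y.2
  rw [← Scheme.Hom.appLE_comp_appLE C.ι f U.1 C ⊤ hle h4, ι_appLE_top C h4, CommRingCat.comp_apply,
    ← CommRingCat.comp_apply C.topIso.inv, Iso.inv_hom_id]
  rfl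

section Coord

variable {Y P : Scheme.{u}} {p : P ⟶ Y} {E : Y.Modules} {O1 : P.Modules}
  {φ : E ⟶ (Scheme.Modules.pushforward p).obj O1} (D : PData p E O1 φ) {U : Y.Opens} (hU : IsAffineOpen U)

theorem sec_inj (e₀ : Γ(E, U)) {c c' : Γ(P, D.DPl hU e₀)}
    (h : c • D.sec hU e₀ e₀ = c' • D.sec hU e₀ e₀) : c = c' := by
  refine ((D.gen_sec hU e₀) _ le_rfl).1 ?_
  simpa only [ParaFLib.res_self] using h

theorem coord_self (e₀ : Γ(E, U)) : D.coord hU e₀ e₀ = 1 :=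
  sec_inj D hU e₀ (by rw [one_smul, ← D.sec_eq])

theorem coord_add (e₀ e e' : Γ(E, U)) : D.coord hU e₀ (e + e') = D.coord hU e₀ e + D.coord hU e₀ e' :=
  sec_inj D hU e₀ (by
    rw [add_smul, ← D.sec_eq, ← D.sec_eq, ← D.sec_eq]
    show O1.presheaf.map _ (φ.app U (e + e')) = O1.presheaf.map _ (φ.app U e) + O1.presheaf.map _ (φ.app U e')
    rw [map_add]
    erw [map_add])

/-- The base acts on the standard open. -/
abbrev baseHom (e₀ : Γ(E, U)) : Γ(Y, U) →+* Γ(P, D.DPl hU e₀) := (p.appLE U (D.DPl hU e₀) (D.DPl_le hU e₀)).hom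

theorem coord_smul (e₀ : Γ(E, U)) (r : Γ(Y, U)) (e : Γ(E, U)) :
    D.coord hU e₀ (r • e) = baseHom D hU e₀ r * D.coord hU e₀ e :=
  sec_inj D hU e₀ (by
    rw [mul_smul, ← D.sec_eq, ← D.sec_eq]
    show O1.presheaf.map _ (φ.app U (r • e)) = _ • O1.presheaf.map _ (φ.app U e)
    erw [Scheme.Modules.Hom.app_smul φ r e]
    exact O1.map_smul _ _ _)

theorem coord_sum (e₀ : Γ(E, U)) {ι : Type*} (t : Finset ι) (g : ι → Γ(E, U)) :
    D.coord hU e₀ (∑ i ∈ t, g i) = ∑ i ∈ t, D.coord hU e₀ (g i) :=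
  map_sum (AddMonoidHom.mk' (D.coord hU e₀) (coord_add D hU e₀)) g t

/-- The standard opens of a basis cover. -/
theorem exists_mem_DPl_basis {ι : Type*} [Fintype ι] (b : Module.Basis ι Γ(Y, U) Γ(E, U)) {y : P} (hy : p y ∈ U) :
    ∃ k, y ∈ D.DPl hU (b k) := by
  obtain ⟨e, he⟩ := D.cover hU hy
  by_contra hne
  push Not at hne
  have h1 : D.coord hU e e = 1 := coord_self D hU e
  have h2 : (P.presheaf.germ (D.DPl hU e) y he).hom (D.coord hU e e) ∈
      IsLocalRing.maximalIdeal (P.presheaf.stalk y) := by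
    conv in (D.coord hU e e) => arg 4; rw [← b.sum_repr e]
    rw [coord_sum D hU e, map_sum]
    refine Ideal.sum_mem _ fun k _ => ?_
    rw [coord_smul, map_mul]
    refine Ideal.mul_mem_left _ _ fun hk => hne k ?_
    have := (Scheme.mem_basicOpen _ (D.coord hU e (b k)) y he).2 hk
    rw [D.basicOpen_coord hU] at this
    exact this.2
  rw [h1, map_one] at h2
  exact (IsLocalRing.maximalIdeal.isMaximal _).ne_top ((Ideal.eq_top_iff_one _).2 h2)

/-- A standard open of a free bundle is an affine space over the base. -/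
theorem exists_polyEquiv {m : ℕ} (b : Module.Basis (Fin (m + 1)) Γ(Y, U) Γ(E, U)) (k : Fin (m + 1)) :
    ∃ Λ : MvPolynomial (Fin m) Γ(Y, U) ≃+* Γ(P, D.DPl hU (b k)),
      (∀ r, Λ (MvPolynomial.C r) = baseHom D hU (b k) r) ∧
        ∀ i, Λ (MvPolynomial.X i) = D.coord hU (b k) (b (k.succAbove i)) := by
  let Λ₀ : MvPolynomial (Fin m) Γ(Y, U) →+* Γ(P, D.DPl hU (b k)) :=
    MvPolynomial.eval₂Hom (baseHom D hU (b k)) fun i => D.coord hU (b k) (b (k.succAbove i))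
  let w : Fin (m + 1) → MvPolynomial (Fin m) Γ(Y, U) := k.insertNth 1 MvPolynomial.X
  have hwk : w k = 1 := Fin.insertNth_apply_same _ _ _
  have hwi : ∀ i, w (k.succAbove i) = MvPolynomial.X i := fun i => Fin.insertNth_apply_succAbove _ _ _ _
  let c : Γ(E, U) →ₗ[Γ(Y, U)] MvPolynomial (Fin m) Γ(Y, U) := b.constr Γ(Y, U) w
  have hcb : ∀ l, c (b l) = w l := fun l => b.constr_basis _ _ l
  obtain ⟨θ, hθ⟩ := D.exists_hom hU (b k) (MvPolynomial.C : Γ(Y, U) →+* MvPolynomial (Fin m) Γ(Y, U))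
    c.toAddMonoidHom (fun r e => (c.map_smul r e).trans (MvPolynomial.smul_eq_C_mul _ _)) ((hcb k).trans hwk)
  have hΛw : ∀ l, Λ₀ (w l) = D.coord hU (b k) (b l) := fun l => by
    rcases eq_or_ne l k with rfl | hl
    · rw [hwk, map_one, coord_self]
    · obtain ⟨i, rfl⟩ := Fin.exists_succAbove_eq hl
      rw [hwi]
      exact MvPolynomial.eval₂Hom_X' _ _ _
  have hΛc : ∀ e, Λ₀ (c e) = D.coord hU (b k) e := fun e => by
    conv_lhs => rw [← b.sum_repr e]
    conv_rhs => rw [← b.sum_repr e]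
    rw [coord_sum, map_sum, map_sum]
    refine Finset.sum_congr rfl fun l _ => ?_
    rw [coord_smul, c.map_smul, hcb, MvPolynomial.smul_eq_C_mul, map_mul, hΛw]
    exact congrArg (· * _) (MvPolynomial.eval₂Hom_C _ _ _)
  have h1 : Λ₀.comp θ = RingHom.id _ := by
    refine RingHom.eq_of_eqOn_set_dense (D.closure_coord hU (b k)) (Set.eqOn_range.2 (funext fun e => ?_))
    show Λ₀ (θ (D.coord hU (b k) e)) = D.coord hU (b k) e
    rw [hθ]
    exact hΛc e
  have h2 : θ.comp Λ₀ = RingHom.id _ := by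
    refine MvPolynomial.ringHom_ext (fun r => ?_) fun i => ?_
    · show θ (Λ₀ (MvPolynomial.C r)) = MvPolynomial.C r
      rw [show Λ₀ (MvPolynomial.C r) = baseHom D hU (b k) r * 1 from (MvPolynomial.eval₂Hom_C _ _ _).trans (mul_one _).symm,
        ← coord_self D hU (b k), ← coord_smul, hθ]
      show c (r • b k) = MvPolynomial.C r
      rw [c.map_smul, hcb, hwk, MvPolynomial.smul_eq_C_mul, mul_one]
    · show θ (Λ₀ (MvPolynomial.X i)) = MvPolynomial.X i
      rw [show Λ₀ (MvPolynomial.X i) = D.coord hU (b k) (b (k.succAbove i)) from MvPolynomial.eval₂Hom_X' _ _ _, hθ]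
      exact (hcb _).trans (hwi i)
  refine ⟨RingEquiv.ofRingHom Λ₀ θ h1 h2, fun r => MvPolynomial.eval₂Hom_C _ _ _, fun i => MvPolynomial.eval₂Hom_X' _ _ _⟩

end Coord

end Groth.Agent.BlowBundleLib
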