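import Groth.Agent.BlowBundleLib.Glue
import Groth.Agent.OmegaAffLib.Ideal
import Groth.Agent.DCohLib.Pullback
import Groth.Agent.CMRegLib.Seq
import Groth.Agent.GrassRepLib.MapEpi

/-!
# The ideal of the blow-up in the projective bundle is the image of the kernel of the tautological quotient
-/

set_option autoImplicit false
set_option linter.style.haveILetI false
set_option backward.isDefEq.respectTransparency false

universe u

open CategoryTheory CategoryTheory.Limits AlgebraicGeometry TopologicalSpace Opposite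
open Groth.Agent.PullbackMod Groth.Agent.ProjBundleLib Groth.Agent.BlowChartLib

noncomputable section

namespace Groth.Agent.BlowBundleLib

variable {X X' P : Scheme.{u}}

theorem adjunct_pullMap (g : X' ⟶ X) {M : X.Modules} {N : X'.Modules}
    (θ : M ⟶ (Scheme.Modules.pushforward g).obj N) {W : X.Opens} {W' : X'.Opens} (e : W' ≤ g ⁻¹ᵁ W) (m : Γ(M, W)) :
    (((Scheme.Modules.pullbackPushforwardAdjunction g).homEquiv M N).symm θ).app W' (pullMap g M e m) =
      N.presheaf.map (homOfLE e).op (θ.app W m) := by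
  let a := ((Scheme.Modules.pullbackPushforwardAdjunction g).homEquiv M N).symm θ
  have h1 : (Scheme.Modules.pullbackPushforwardAdjunction g).unit.app M ≫
      (Scheme.Modules.pushforward g).map a = θ :=
    (Adjunction.homEquiv_unit _ _ _ _).symm.trans (Equiv.apply_symm_apply _ _)
  refine (ConcreteCategory.congr_hom (a.mapPresheaf.naturality (homOfLE e).op) _).trans ?_
  exact congrArg (N.presheaf.map (homOfLE e).op)
    (congrArg (fun χ : M ⟶ (Scheme.Modules.pushforward g).obj N => χ.app W m) h1)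

variable {E : X.Modules} (u : E ⟶ Coh.structureModule X) (p : P ⟶ X) {O1 : P.Modules}
  (φ : E ⟶ (Scheme.Modules.pushforward p).obj O1)

/-- The form, pulled back. -/
def uP : (Scheme.Modules.pullback p).obj E ⟶ Coh.structureModule P :=
  ((Scheme.Modules.pullbackPushforwardAdjunction p).homEquiv _ _).symm
    (u ≫ SheafOfModules.unitToPushforwardObjUnit p.toRingCatSheafHom)

/-- The tautological quotient. -/
def qP : (Scheme.Modules.pullback p).obj E ⟶ O1 :=
  ((Scheme.Modules.pullbackPushforwardAdjunction p).homEquiv _ _).symm φ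

/-- The values of the pulled back form. -/
def uSec (W : P.Opens) : Γ((Scheme.Modules.pullback p).obj E, W) →+ Γ(P, W) :=
  (OmegaSh.fnSect P W).comp ((uP u p).app W).hom

theorem uSec_smul (W : P.Opens) (c : Γ(P, W)) (z : Γ((Scheme.Modules.pullback p).obj E, W)) :
    uSec u p W (c • z) = c * uSec u p W z :=
  Scheme.Modules.Hom.app_smul (uP u p) c z

theorem uSec_pullMap {U : X.Opens} {W : P.Opens} (e : W ≤ p ⁻¹ᵁ U) (m : Γ(E, U)) :
    uSec u p W (pullMap p E e m) = p.appLE U W e (uval u U m) :=
  congrArg (OmegaSh.fnSect P W) (adjunct_pullMap p _ e m)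

variable {u p φ}

theorem qP_pullMap (D : PData p E O1 φ) {U : X.Opens} (hU : IsAffineOpen U) (e₀ : Γ(E, U)) {W : P.Opens}
    (hW : W ≤ D.DPl hU e₀) (m : Γ(E, U)) :
    (qP p φ).app W (pullMap p E (hW.trans (D.DPl_le hU e₀)) m) =
      P.presheaf.map (homOfLE hW).op (D.coord hU e₀ m) • O1.presheaf.map (homOfLE hW).op (D.sec hU e₀ e₀) := by
  refine (adjunct_pullMap p φ _ m).trans ?_
  refine Eq.trans ?_ ((congrArg (O1.presheaf.map (homOfLE hW).op) (D.sec_eq hU e₀ m)).trans (O1.map_smul _ _ _))
  exact (ParaFLib.res_res _ _ _).symm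

/-- Sections of the kernel over a standard open. -/
theorem exists_combination (D : PData p E O1 φ) {U : X.Opens} (hU : IsAffineOpen U) {m : ℕ}
    (b : Module.Basis (Fin (m + 1)) Γ(X, U) Γ(E, U)) (k : Fin (m + 1)) {W : P.Opens} (hWa : IsAffineOpen W)
    (hW : W ≤ D.DPl hU (b k)) (z : Γ((Scheme.Modules.pullback p).obj E, W)) (hz : (qP p φ).app W z = 0) :
    ∃ c : Fin (m + 1) → Γ(P, W),
      uSec u p W z = ∑ l, c l * p.appLE U W (hW.trans (D.DPl_le hU (b k))) (uval u U (b l)) ∧
      ∑ l, c l * P.presheaf.map (homOfLE hW).op (D.coord hU (b k) (b l)) = 0 := by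
  classical
  haveI := D.hE
  have e := hW.trans (D.DPl_le hU (b k))
  letI : Algebra Γ(X, U) Γ(P, W) := (p.appLE U W e).hom.toAlgebra
  letI := Module.compHom Γ((Scheme.Modules.pullback p).obj E, W) (p.appLE U W e).hom
  haveI : IsScalarTower Γ(X, U) Γ(P, W) Γ((Scheme.Modules.pullback p).obj E, W) :=
    .of_algebraMap_smul fun _ _ => rfl
  have hbc := isBaseChange_pullMapL p E hU hWa e
  have hz' : ∃ c : Fin (m + 1) → Γ(P, W), z = ∑ l, c l • pullMap p E e (b l) := by
    clear hz
    induction z using hbc.inductionOn with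
    | zero => exact ⟨0, by simp⟩
    | tmul x =>
      refine ⟨fun l => p.appLE U W e (b.repr x l), ?_⟩
      show pullMap p E e x = _
      conv_lhs => rw [← b.sum_repr x]
      rw [map_sum]
      exact Finset.sum_congr rfl fun l _ => pullMap_smul p E e _ _
    | smul a y hy =>
      obtain ⟨c, rfl⟩ := hy
      exact ⟨fun l => a * c l, by rw [Finset.smul_sum]; exact Finset.sum_congr rfl fun l _ => smul_smul a _ _⟩
    | add y y' hy hy' =>
      obtain ⟨c, rfl⟩ := hy
      obtain ⟨c', rfl⟩ := hy'
      exact ⟨c + c', by simp [add_smul, Finset.sum_add_distrib]⟩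
  obtain ⟨c, rfl⟩ := hz'
  refine ⟨c, ?_, ?_⟩
  · rw [map_sum]
    exact Finset.sum_congr rfl fun l _ => by rw [uSec_smul, uSec_pullMap]
  · refine ((D.gen_sec hU (b k)) W hW).1 ?_
    show _ • O1.presheaf.map (homOfLE hW).op (D.sec hU (b k) (b k)) =
      (0 : Γ(P, W)) • O1.presheaf.map (homOfLE hW).op (D.sec hU (b k) (b k))
    rw [zero_smul, ← hz, Finset.sum_smul, map_sum]
    exact Finset.sum_congr rfl fun l _ => by
      rw [Scheme.Modules.Hom.app_smul, qP_pullMap D hU (b k) hW, mul_smul]

/-- The chart equations are values of the form on the kernel. -/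
theorem exists_kernel_elt (D : PData p E O1 φ) {U : X.Opens} (hU : IsAffineOpen U) {m : ℕ}
    (b : Module.Basis (Fin (m + 1)) Γ(X, U) Γ(E, U)) (k : Fin (m + 1)) {W : P.Opens}
    (hW : W ≤ D.DPl hU (b k)) (i : Fin m) :
    ∃ z : Γ(kernel (qP p φ), W), uSec u p W ((kernel.ι (qP p φ)).app W z) =
      P.presheaf.map (homOfLE hW).op (baseHom D hU (b k) (uval u U (b k)) * D.coord hU (b k) (b (k.succAbove i)) -
        baseHom D hU (b k) (uval u U (b (k.succAbove i)))) := by
  have e := hW.trans (D.DPl_le hU (b k))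
  let T := P.presheaf.map (homOfLE hW).op (D.coord hU (b k) (b (k.succAbove i)))
  let w : Γ((Scheme.Modules.pullback p).obj E, W) :=
    T • pullMap p E e (b k) - pullMap p E e (b (k.succAbove i))
  have hw : (qP p φ).app W w = 0 := by
    rw [map_sub, Scheme.Modules.Hom.app_smul, qP_pullMap D hU (b k) hW, qP_pullMap D hU (b k) hW, coord_self, map_one,
      one_smul, sub_self]
  refine ⟨OmegaSh.kerLift (qP p φ) W w hw, ?_⟩
  rw [show (kernel.ι (qP p φ)).app W (OmegaSh.kerLift (qP p φ) W w hw) = w from OmegaSh.ι_kerLift _ _ _ _]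
  have hres : ∀ a, P.presheaf.map (homOfLE hW).op (baseHom D hU (b k) a) = p.appLE U W e a := fun a =>
    congr($(p.appLE_map (D.DPl_le hU (b k)) (homOfLE hW).op) a)
  rw [map_sub, uSec_smul, uSec_pullMap, uSec_pullMap, map_sub, map_mul, hres, hres, mul_comm]

end Groth.Agent.BlowBundleLib
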