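import Groth.Agent.BlowBundleLib.Conormal
import Groth.Agent.ConormalLib.Trans
import Groth.Agent.TildePullback.Conormal
import Groth.Agent.RegKindLib.Basic
import Groth.Agent.KVbLib.Rank
import Groth.Agent.CurveLib.Inv

/-!
# The conormal sheaf of the blow-up in the projective bundle
-/

set_option autoImplicit false
set_option linter.style.haveILetI false
set_option backward.isDefEq.respectTransparency false

universe u

open CategoryTheory CategoryTheory.Limits AlgebraicGeometry TopologicalSpace Opposite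
open Groth.Agent.PullbackMod Groth.Agent.ProjBundleLib Groth.Agent.BlowChartLib

noncomputable section

namespace Groth.Agent.BlowBundleLib

/-- An epimorphism from the kernel of a surjection onto a line bundle, of the same rank, is an isomorphism. -/
theorem isIso_of_epi_kernel {X : Scheme.{u}} {M N C : X.Modules} (q : M ⟶ N) [Epi q] (β : kernel q ⟶ C) [Epi β]
    (h : ∀ x, ∃ m, FreeAt (m + 1) M x ∧ FreeAt 1 N x ∧ FreeAt m C x) : IsIso β := by
  refine (isIso_iff_stalk β).2 fun x => ?_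
  have hs := (epi_iff_stalk β).1 inferInstance x
  refine ⟨?_, hs⟩
  obtain ⟨m, ⟨eM⟩, ⟨eN⟩, ⟨eC⟩⟩ := h x
  let O := X.presheaf.stalk x
  let qx := stalkLin q x
  let ιx := stalkLin (kernel.ι q) x
  let βx := stalkLin β x
  have hq : Function.Surjective qx := (epi_iff_stalk q).1 inferInstance x
  have hι : Function.Injective ιx := (mono_iff_stalk _).1 inferInstance x
  haveI : Module.Free O (N.presheaf.stalk x) := Module.Free.of_equiv eN.symm
  obtain ⟨σ, hσ⟩ := Module.projective_lifting_property qx LinearMap.id hq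
  have hexists : ∀ v, ∃ c, ιx c = v - σ (qx v) := fun v =>
    (DCohLib.exact_stalkLin (ShortComplex.mk (kernel.ι q) q (kernel.condition q))
      (ShortComplex.exact_of_f_is_kernel _ (kernelIsKernel q)) x _).1 (by
    show qx (v - σ (qx v)) = 0
    rw [map_sub, sub_eq_zero]
    exact (LinearMap.congr_fun hσ (qx v)).symm)
  choose ρ hρ using hexists
  let ρL : M.presheaf.stalk x →ₗ[O] (kernel q).presheaf.stalk x :=
    { toFun := ρ
      map_add' := fun a b => hι (by rw [map_add, hρ, hρ, hρ, map_add, map_add]; abel)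
      map_smul' := fun a b => hι (by rw [RingHom.id_apply, map_smul, hρ, hρ, map_smul, map_smul, smul_sub]) }
  let Φ : M.presheaf.stalk x →ₗ[O] C.presheaf.stalk x × N.presheaf.stalk x := (βx ∘ₗ ρL).prod qx
  have hqι : ∀ c, qx (ιx c) = 0 := fun c => by
    show stalkLin q x (stalkLin (kernel.ι q) x c) = 0
    rw [← LinearMap.comp_apply, ← stalkLin_comp, kernel.condition]
    exact LinearMap.congr_fun ((eq_zero_iff_stalk (0 : kernel q ⟶ N)).1 rfl x) c
  have hρι : ∀ c, ρ (ιx c) = c := fun c => hι (by rw [hρ, hqι, map_zero, sub_zero])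
  have hρσ : ∀ n, ρ (σ n) = 0 := fun n => hι (by
    rw [hρ, map_zero, show qx (σ n) = n from LinearMap.congr_fun hσ n, sub_self])
  have hΦ : Function.Surjective Φ := by
    rintro ⟨c, n⟩
    obtain ⟨a, ha⟩ := hs c
    refine ⟨ιx a + σ n, Prod.ext ?_ ?_⟩
    · show βx (ρL (ιx a + σ n)) = c
      rw [map_add, show ρL (ιx a) = a from hρι a, show ρL (σ n) = 0 from hρσ n, add_zero]
      exact ha
    · show qx (ιx a + σ n) = n
      rw [map_add, hqι, zero_add]
      exact LinearMap.congr_fun hσ n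
  let eT : (C.presheaf.stalk x × N.presheaf.stalk x) ≃ₗ[O] (Fin (m + 1) → O) :=
    (eC.prodCongr eN).trans
      ((LinearEquiv.sumArrowLequivProdArrow (Fin m) (Fin 1) O O).symm.trans
        (LinearEquiv.funCongrLeft O O finSumFinEquiv.symm))
  let ψ : (Fin (m + 1) → O) →ₗ[O] (Fin (m + 1) → O) := eT.toLinearMap ∘ₗ Φ ∘ₗ eM.symm.toLinearMap
  have hψ := OrzechProperty.injective_of_surjective_endomorphism ψ (eT.surjective.comp (hΦ.comp eM.symm.surjective))
  intro a b hab
  refine hι (eM.injective (hψ ?_))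
  show eT (Φ (eM.symm (eM (ιx a)))) = eT (Φ (eM.symm (eM (ιx b))))
  rw [eM.symm_apply_apply, eM.symm_apply_apply]
  refine congrArg eT (Prod.ext ?_ ?_)
  · show βx (ρ (ιx a)) = βx (ρ (ιx b))
    rw [hρι, hρι]
    exact hab
  · show qx (ιx a) = qx (ιx b)
    rw [hqι, hqι]

/-- The pullback of the kernel of an epimorphism onto a locally free module is the kernel of the pullback. -/
theorem nonempty_pullback_kernel_iso {Y Z : Scheme.{u}} (j : Y ⟶ Z) {M N : Z.Modules} (g : M ⟶ N) [Epi g]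
    (hN : FlatMod.IsFinLocFree N) :
    Nonempty ((Scheme.Modules.pullback j).obj (kernel g) ≅ kernel ((Scheme.Modules.pullback j).map g)) := by
  let S : ShortComplex Z.Modules := ShortComplex.mk (kernel.ι g) g (kernel.condition g)
  have hS : (S.map (Scheme.Modules.pullback j)).ShortExact :=
    DCohLib.shortExact_pullback_of_isFlat j S (CMRegLib.shortExact_ker g)
      (fun x => PullbackMod.isFlat_of_isFinLocFree N hN x)
  exact ⟨IsLimit.conePointUniqueUpToIso hS.fIsKernel
    (limit.isLimit (parallelPair ((Scheme.Modules.pullback j).map g) 0))⟩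

variable {X X' P : Scheme.{u}} {E : X.Modules} {u : E ⟶ Coh.structureModule X} {J : X.IdealSheafData}
  {p : P ⟶ X} {O1 : P.Modules} {φ : E ⟶ (Scheme.Modules.pushforward p).obj O1}
  {f : X' ⟶ X} {s : (Scheme.Modules.pullback f).obj E ⟶ ClSub.idealMod (BlowUp.exceptional f J)}

/-- The conormal sheaf is the kernel of the quotient. -/
theorem nonempty_conormal_iso (D : PData p E O1 φ) (hf : BlowUp.IsBlowUp f J) (hs : HasVal u s) (r : X' ⟶ P)
    [IsClosedImmersion r] (hc : Compat φ (sigma s) (𝟙 X') r)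
    (hu : ∀ x : X, ∃ U : X.affineOpens, x ∈ U.1 ∧ ∃ (n : ℕ) (b : Module.Basis (Fin n) Γ(X, U.1) Γ(E, U.1)),
      LCI.IsKoszulRegularSeq Γ(X, U.1) (List.ofFn fun k => uval u U.1 (b k)) ∧
        J.ideal U = Ideal.span (Set.range fun k => uval u U.1 (b k))) :
    Nonempty (Omega.conormal r ≅ kernel ((Scheme.Modules.pullback r).map (qP p φ))) := by
  haveI := D.hE
  have hloc : ∀ y : P, ∃ (U : X.affineOpens) (m : ℕ) (b : Module.Basis (Fin (m + 1)) Γ(X, U.1) Γ(E, U.1))
      (k : Fin (m + 1)), y ∈ D.DPl U.2 (b k) ∧ ∃ rs : List Γ(P, D.DPl U.2 (b k)), rs.length = m ∧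
        LCI.IsKoszulRegularSeq Γ(P, D.DPl U.2 (b k)) rs ∧
        RingHom.ker (r.app (D.DPl U.2 (b k))).hom = Ideal.ofList rs ∧
        rs = List.ofFn fun i => baseHom D U.2 (b k) (uval u U.1 (b k)) * D.coord U.2 (b k) (b (k.succAbove i)) -
          baseHom D U.2 (b k) (uval u U.1 (b (k.succAbove i))) := fun y => by
    obtain ⟨U, hyU, n, b, hb, hI⟩ := hu (p y)
    obtain ⟨k, hk⟩ := exists_mem_DPl_basis D U.2 b hyU
    obtain ⟨m, rfl⟩ : ∃ m, n = m + 1 := ⟨n - 1, (Nat.succ_pred_eq_of_pos (k.pos)).symm⟩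
    exact ⟨U, m, b, k, hk, (regular_on_DPl D hf hs hc U b hb hI k).2⟩
  let V := fun (U : X.affineOpens) {m : ℕ} (b : Module.Basis (Fin (m + 1)) Γ(X, U.1) Γ(E, U.1)) (k : Fin (m + 1)) =>
    D.DPl U.2 (b k)
  have hsmall : ∀ (U : X.affineOpens) (m : ℕ) (b : Module.Basis (Fin (m + 1)) Γ(X, U.1) Γ(E, U.1)) (k : Fin (m + 1))
      (W₀ : P.Opens) (y : P), y ∈ W₀ → y ∈ V U b k → ∃ W : P.affineOpens, y ∈ W.1 ∧ W.1 ≤ W₀ ∧ W.1 ≤ V U b k := by
    intro U m b k W₀ y hy hy'
    obtain ⟨_, ⟨W, hW, rfl⟩, hyW, hle⟩ :=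
      P.isBasis_affineOpens.exists_subset_of_mem_open (show y ∈ (W₀ ⊓ V U b k : P.Opens) from ⟨hy, hy'⟩) (W₀ ⊓ V U b k).2
    exact ⟨⟨W, hW⟩, hyW, fun z hz => (hle hz).1, fun z hz => (hle hz).2⟩
  have hideal : ∀ (W : P.affineOpens) (z : Γ(P, W.1)), z ∈ r.ker.ideal W ↔ r.app W.1 z = 0 := fun W z => by
    rw [Scheme.Hom.ker_apply]; rfl
  let κ₀ := kernel.ι (qP p φ) ≫ uP u p
  have h0 : κ₀ ≫ ClSub.toSubscheme r.ker = 0 := by
    refine (eq_zero_iff_stalk _).2 fun y => LinearMap.ext fun z => ?_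
    obtain ⟨W₀, hy, w₀, rfl⟩ := TopCat.Presheaf.exists_germ_eq (kernel (qP p φ)).presheaf z
    obtain ⟨U, m, b, k, hk, rs, -, -, hker, hrs⟩ := hloc y
    obtain ⟨W, hyW, hW₀, hWV⟩ := hsmall U m b k W₀ y hy hk
    let w := (kernel (qP p φ)).presheaf.map (homOfLE hW₀).op w₀
    have hw : (qP p φ).app W.1 ((kernel.ι (qP p φ)).app W.1 w) = 0 :=
      congr(($(kernel.condition (qP p φ))).app W.1 w)
    obtain ⟨c, hc1, hc2⟩ := exists_combination (u := u) D U.2 b k W.2 hWV _ hw
    let fl := fun l => p.appLE U.1 W.1 (hWV.trans (D.DPl_le U.2 (b k))) (uval u U.1 (b l))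
    let cl := fun l => P.presheaf.map (homOfLE hWV).op (D.coord U.2 (b k) (b l))
    have hval : r.app W.1 (uSec u p W.1 ((kernel.ι (qP p φ)).app W.1 w)) = 0 := by
      have hx : uSec u p W.1 ((kernel.ι (qP p φ)).app W.1 w) = ∑ l, c l * (fl l - cl l * fl k) := by
        rw [hc1]
        simp only [mul_sub, Finset.sum_sub_distrib, ← mul_assoc, ← Finset.sum_mul]
        rw [show ∑ l, c l * cl l = 0 from hc2, zero_mul, sub_zero]
      rw [hx, map_sum]
      refine Finset.sum_eq_zero fun l _ => ?_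
      rw [map_mul]
      refine mul_eq_zero_of_right _ ?_
      rcases eq_or_ne l k with rfl | hl
      · simp only [cl, coord_self, map_one, one_mul, sub_self, map_zero]
      · obtain ⟨i, rfl⟩ := Fin.exists_succAbove_eq hl
        let eq' := baseHom D U.2 (b k) (uval u U.1 (b k)) * D.coord U.2 (b k) (b (k.succAbove i)) -
          baseHom D U.2 (b k) (uval u U.1 (b (k.succAbove i)))
        have hmem : eq' ∈ RingHom.ker (r.app (V U b k)).hom :=
          hker ▸ Ideal.subset_span (show eq' ∈ rs by rw [hrs]; exact List.mem_ofFn.2 ⟨i, rfl⟩)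
        have hres : ∀ a, P.presheaf.map (homOfLE hWV).op (baseHom D U.2 (b k) a) =
            p.appLE U.1 W.1 (hWV.trans (D.DPl_le U.2 (b k))) a := fun a =>
          congr($(p.appLE_map (D.DPl_le U.2 (b k)) (homOfLE hWV).op) a)
        have heq : fl (k.succAbove i) - cl (k.succAbove i) * fl k = -P.presheaf.map (homOfLE hWV).op eq' := by
          simp only [fl, cl, eq', map_sub, map_mul, hres]
          ring
        rw [heq, map_neg, neg_eq_zero,
          show r.app W.1 (P.presheaf.map (homOfLE hWV).op eq') =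
            X'.presheaf.map ((Opens.map r.base).map (homOfLE hWV)).op (r.app (V U b k) eq') from
            congr($(r.naturality (homOfLE hWV).op) eq'),
          RingHom.mem_ker.1 hmem, map_zero]
    refine (stalkLin_germ _ y hy w₀).trans ?_
    rw [← TopCat.Presheaf.germ_res_apply _ (homOfLE hW₀) y hyW,
      ← ConcreteCategory.comp_apply, ← ConcreteCategory.comp_apply]
    refine (congrArg ((_ : P.Modules).presheaf.germ W.1 y hyW) ?_).trans (map_zero _)
    exact (ConcreteCategory.congr_hom ((κ₀ ≫ ClSub.toSubscheme r.ker).mapPresheaf.naturality (homOfLE hW₀).op) w₀).symm.trans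
      ((OmegaSh.toSubscheme_app_strSect W.1 r.ker _).trans
        (RingHom.mem_ker (f := (r.ker.subschemeι.app W.1).hom) |>.1
          ((Scheme.IdealSheafData.ker_subschemeι_app r.ker W).ge ((hideal W _).2 hval))))
  let κ : kernel (qP p φ) ⟶ ClSub.idealMod r.ker := kernel.lift _ κ₀ h0
  have hκ : ∀ (W : P.Opens) (w : Γ(kernel (qP p φ), W)),
      OmegaSh.idealSect r.ker W (κ.app W w) = uSec u p W ((kernel.ι (qP p φ)).app W w) := fun W w =>
    congrArg (OmegaSh.fnSect P W)
      (congr(($(kernel.lift_ι (ClSub.toSubscheme r.ker) κ₀ h0)).app W w))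
  haveI hκe : Epi κ := by
    refine (epi_iff_stalk κ).2 fun y z => ?_
    obtain ⟨W₀, hy, t₀, rfl⟩ := TopCat.Presheaf.exists_germ_eq (ClSub.idealMod r.ker).presheaf z
    obtain ⟨U, m, b, k, hk, rs, -, -, hker, hrs⟩ := hloc y
    obtain ⟨W, hyW, hW₀, hWV⟩ := hsmall U m b k W₀ y hy hk
    let t := (ClSub.idealMod r.ker).presheaf.map (homOfLE hW₀).op t₀
    let Va : P.affineOpens := ⟨V U b k, D.isAffineOpen_DPl U.2 (b k)⟩
    have hmem : OmegaSh.idealSect r.ker W.1 t ∈ r.ker.ideal W :=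
      (OmegaAffLib.mem_range_idealSect r.ker W _).2 ⟨t, rfl⟩
    rw [← r.ker.map_ideal (U := W) (V := Va) hWV, Scheme.Hom.ker_apply] at hmem
    rw [show RingHom.ker (r.app Va.1).hom = _ from hker, hrs, Ideal.ofList, Ideal.map_span] at hmem
    have hmem' : OmegaSh.idealSect r.ker W.1 t ∈ Ideal.span (Set.range fun i : Fin m =>
        P.presheaf.map (homOfLE hWV).op (baseHom D U.2 (b k) (uval u U.1 (b k)) * D.coord U.2 (b k) (b (k.succAbove i)) -
          baseHom D U.2 (b k) (uval u U.1 (b (k.succAbove i))))) := by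
      refine Ideal.span_mono ?_ hmem
      rintro _ ⟨a, ha, rfl⟩
      obtain ⟨i, rfl⟩ := List.mem_ofFn.1 ha
      exact ⟨i, rfl⟩
    obtain ⟨c, hc'⟩ := Ideal.mem_span_range_iff_exists_fun.1 hmem'
    choose g hg using fun i => exists_kernel_elt (u := u) D U.2 b k hWV i
    refine ⟨(kernel (qP p φ)).presheaf.germ W.1 y hyW (∑ i, c i • g i), ?_⟩
    rw [stalkLin_germ _ y hyW]
    refine Eq.trans ?_ (TopCat.Presheaf.germ_res_apply _ (homOfLE hW₀) y hyW t₀)
    refine congrArg ((ClSub.idealMod r.ker).presheaf.germ W.1 y hyW) ?_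
    refine OmegaAffLib.idealSect_injective _ _ ?_
    refine Eq.trans ?_ hc'
    rw [map_sum, map_sum]
    refine Finset.sum_congr rfl fun i _ => ?_
    rw [Scheme.Modules.Hom.app_smul, OmegaAffLib.idealSect_smul, hκ, hg]
  haveI : (Scheme.Modules.pullback r).PreservesEpimorphisms :=
    Functor.preservesEpimorphisms_of_adjunction (Scheme.Modules.pullbackPushforwardAdjunction r)
  haveI : Epi (qP p φ) := D.epi_adjunct
  have hfree1 : ∀ y : P, FreeAt 1 O1 y := fun y => by
    obtain ⟨U, hU, e₀, -, he₀⟩ := D.exists_chart_gen y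
    exact ⟨(LinearEquiv.ofBijective (LinearMap.toSpanSingleton _ _ _) (D.bijective_germφ hU e₀ he₀)).symm.trans
      (LinearEquiv.funUnique (Fin 1) _ _).symm⟩
  haveI hO1q : Coh.IsQCoh O1 := D.isQCoh_O1
  have hO1 : FlatMod.IsFinLocFree O1 :=
    CurveLib.isFinLocFree_of_isInvertible D.isInvertible_O1
  obtain ⟨e0⟩ := nonempty_pullback_kernel_iso r (qP p φ) hO1
  let β : kernel ((Scheme.Modules.pullback r).map (qP p φ)) ⟶ Omega.conormal r :=
    e0.inv ≫ (Scheme.Modules.pullback r).map κ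
  haveI : Epi β := inferInstanceAs (Epi (e0.inv ≫ (Scheme.Modules.pullback r).map κ))
  haveI : IsIso β := by
    refine isIso_of_epi_kernel _ β fun x => ?_
    obtain ⟨U, m, b, k, hk, rs, hlen, hreg, hker, -⟩ := hloc (r x)
    refine ⟨m, ?_, freeAt_pullback O1 r x (hfree1 _), ?_⟩
    · haveI : Module.Free Γ(X, U.1) Γ(E, U.1) := Module.Free.of_basis b
      haveI : Module.Finite Γ(X, U.1) Γ(E, U.1) := Module.Finite.of_basis b
      have hpU : p (r x) ∈ U.1 := D.DPl_le U.2 (b k) hk
      haveI : Coh.IsQCoh ((Scheme.Modules.pullback p).obj E) := PullbackMod.isQCoh_pullback p E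
      haveI : Nontrivial Γ(X, U.1) :=
        ((X.presheaf.germ U.1 _ hpU).hom.domain_nontrivial)
      exact freeAt_pullback _ r x (freeAt_pullback E p (r x) (KVb.freeAt_of_free_sections (M := E) U.2 hpU
        ((Module.finrank_eq_card_basis b).trans (Fintype.card_fin _))))
    · have T : ConormalLib.Tower r (𝟙 P) (V U b k) :=
        { affU := D.isAffineOpen_DPl U.2 (b k)
          affY := D.isAffineOpen_DPl U.2 (b k)
          affW := (D.isAffineOpen_DPl U.2 (b k)).preimage r
          surjY := fun c => ⟨c, rfl⟩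
          surjW := r.app_surjective _ (D.isAffineOpen_DPl U.2 (b k)) }
      obtain ⟨i⟩ := T.nonempty_free (f := rs.get) (RegKindLib.isH1Regular_of_isKoszulRegularSeq hreg) (by
        rw [Set.range_list_get]; exact hker)
      haveI := OmegaAffLib.isQCoh_idealMod r.ker
      haveI : Coh.IsQCoh (Omega.conormal r) := PullbackMod.isQCoh_pullback r (ClSub.idealMod r.ker)
      exact hlen ▸ freeAt_of_restrict_iso _ i hk
  exact ⟨(asIso β).symm⟩

end Groth.Agent.BlowBundleLib
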