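import Groth.Agent.BlowBundleLib.Main

/-!
# The blow-up in the projective bundle, globally
-/

set_option autoImplicit false
set_option linter.style.haveILetI false
set_option backward.isDefEq.respectTransparency false

universe u

open CategoryTheory CategoryTheory.Limits AlgebraicGeometry TopologicalSpace Opposite
open Groth.Agent.ProjBundleLib

noncomputable section

namespace Groth.Agent.BlowBundleLib

theorem exists_local {X X' P : Scheme.{u}}
    (E : X.Modules) (hE : FlatMod.IsFinLocFree E) (u : E ⟶ Coh.structureModule X)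
    (hu : ∀ x : X, ∃ U : X.affineOpens, x ∈ U.1 ∧
      ∃ (n : ℕ) (b : Module.Basis (Fin n) Γ(X, U.1) (E.val.obj (op U.1))),
        LCI.IsKoszulRegularSeq Γ(X, U.1) (List.ofFn fun k => ((u.val.app (op U.1)).hom (b k) : Γ(X, U.1))))
    (J : X.IdealSheafData) (hJ : ∀ U : X.affineOpens, J.ideal U = @Ideal.span Γ(X, U.1) _ (Set.range fun s : E.val.obj (op U.1) => ((u.val.app (op U.1)).hom s : Γ(X, U.1))))
    (π : P ⟶ X) (O1 : P.Modules) (q : (Scheme.Modules.pullback π).obj E ⟶ O1) (hP : KRR.IsProjBundle π E O1 q)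
    (f : X' ⟶ X) (hf : BlowUp.IsBlowUp f J)
    (j : X' ⟶ P) (hjπ : j ≫ π = f)
    (e : (Scheme.Modules.pullback j).obj O1 ≅ ClSub.idealMod (BlowUp.exceptional f J))
    (hcomp : (Scheme.Modules.pullbackCongr hjπ).inv.app E ≫ (Scheme.Modules.pullbackComp j π).inv.app E ≫
        (Scheme.Modules.pullback j).map q ≫ e.hom ≫ ClSub.idealModι (BlowUp.exceptional f J) =
      (Scheme.Modules.pullback f).map u ≫
        ((Scheme.Modules.pullbackPushforwardAdjunction f).homEquiv _ _).symm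
          (SheafOfModules.unitToPushforwardObjUnit f.toRingCatSheafHom)) :
    IsClosedImmersion j ∧ ∀ y : P, ∃ (U : X.affineOpens) (n : ℕ) (_ : Module.Basis (Fin n) Γ(X, U.1) Γ(E, U.1)),
      π y ∈ U.1 ∧ ∃ V : P.affineOpens, y ∈ V.1 ∧ IsClosedImmersion (j ∣_ V.1) ∧
        ∃ rs : List Γ(P, V.1), rs.length = n - 1 ∧ RegImm.Kind.Seq .koszul Γ(P, V.1) rs ∧
          RingHom.ker (j.app V.1).hom = Ideal.ofList rs := by
  have hq : Coh.IsQCoh E := (PullbackMod.isQCoh_and_isFP_of_isFinLocFree E hE).1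
  obtain ⟨P₀, p₀, O₀, φ, ⟨D⟩⟩ := exists_bundle hq
  obtain ⟨v, hv, τ, hiso, hτ⟩ :=
    CycLib.PB.exists_iso_of_isGrass (GrassShLib.isGrass_of_pdata D) (Grass.IsGrass.of_isProjBundle hP)
  haveI := hiso
  let r := j ≫ v
  have hr : r ≫ p₀ = f := by rw [Category.assoc, hv, hjπ]
  let τ' : (Scheme.Modules.pullback r).obj O₀ ≅ ClSub.idealMod (BlowUp.exceptional f J) :=
    ((Scheme.Modules.pullbackComp j v).app O₀).symm ≪≫ (Scheme.Modules.pullback j).mapIso τ ≪≫ e
  let s := pullAdj hr φ ≫ τ'.hom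
  have hs : HasVal u s := by
    refine hasVal_of_eq u s ?_
    refine Eq.trans ?_ hcomp
    have h := FlagLib.qb_qb (((Scheme.Modules.pullbackPushforwardAdjunction p₀).homEquiv E O₀).symm φ) hv
      (rfl : j ≫ v = r) hjπ hr τ.hom
    rw [show FlagLib.qb (((Scheme.Modules.pullbackPushforwardAdjunction p₀).homEquiv E O₀).symm φ) hv ≫ τ.hom = q from hτ,
      FlagLib.qb_rfl] at h
    show (FlagLib.qb (((Scheme.Modules.pullbackPushforwardAdjunction p₀).homEquiv E O₀).symm φ) hr ≫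
      ((Scheme.Modules.pullbackComp j v).inv.app O₀ ≫ (Scheme.Modules.pullback j).map τ.hom ≫ e.hom)) ≫ _ = _
    have h' := congrArg (fun t => t ≫ e.hom ≫ ClSub.idealModι (BlowUp.exceptional f J)) h
    simp only [FlagLib.qb, Grass.quotBC, Category.assoc] at h' ⊢
    exact h'.symm
  have hc : Compat φ (sigma s) (𝟙 X') r := D.compat_of_iso s hr τ' rfl
  have hloc : ∀ y : P₀, ∃ (U : X.affineOpens) (n : ℕ) (_ : Module.Basis (Fin n) Γ(X, U.1) Γ(E, U.1)),
      p₀ y ∈ U.1 ∧ ∃ W : P₀.affineOpens, y ∈ W.1 ∧ IsClosedImmersion (r ∣_ W.1) ∧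
        ∃ rs : List Γ(P₀, W.1), rs.length = n - 1 ∧ LCI.IsKoszulRegularSeq Γ(P₀, W.1) rs ∧
          RingHom.ker (r.app W.1).hom = Ideal.ofList rs := fun y => by
    obtain ⟨U, hyU, n, b, hb⟩ := hu (p₀ y)
    obtain ⟨k, hk⟩ := exists_mem_DPl_basis D U.2 b hyU
    obtain ⟨m, rfl⟩ : ∃ m, n = m + 1 := ⟨n - 1, (Nat.succ_pred_eq_of_pos (k.pos)).symm⟩
    have hI : J.ideal U = Ideal.span (Set.range fun l => uval u U.1 (b l)) := by
      refine (hJ U).trans (le_antisymm (Ideal.span_le.2 ?_) (Ideal.span_le.2 ?_))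
      · rintro _ ⟨z, rfl⟩
        show (u.val.app (op U.1)).hom z ∈ _
        rw [← b.sum_repr z, map_sum]
        refine Ideal.sum_mem _ fun l _ => ?_
        rw [map_smul]
        exact Ideal.mul_mem_left _ _ (Ideal.subset_span ⟨l, rfl⟩)
      · rintro _ ⟨l, rfl⟩
        exact Ideal.subset_span ⟨b l, rfl⟩
    obtain ⟨hci, rs, hlen, hreg, hker, -⟩ := regular_on_DPl D hf hs hc U b hb hI k
    exact ⟨U, m + 1, b, hyU, ⟨_, D.isAffineOpen_DPl U.2 (b k)⟩, hk, hci, rs, hlen, hreg, hker⟩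
  haveI : IsClosedImmersion r := by
    choose U n b hy W hyW hW _ using hloc
    exact IsZariskiLocalAtTarget.of_iSup_eq_top (P := @IsClosedImmersion) (fun y => (W y).1)
      (eq_top_iff.2 fun y _ => Opens.mem_iSup.2 ⟨y, hyW y⟩) hW
  have hj : IsClosedImmersion j := by
    have : j = r ≫ inv v := by simp [r]
    rw [this]; infer_instance
  refine ⟨hj, fun y => ?_⟩
  obtain ⟨U, n, b, hyU, W, hyW, -, rs, hlen, hreg, hker⟩ := hloc (v y)
  have hV : IsAffineOpen (v ⁻¹ᵁ W.1) := W.2.preimage_of_isIso v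
  haveI : IsIso (v.app W.1) := inferInstance
  have hbij : Function.Bijective (v.app W.1).hom := ConcreteCategory.bijective_of_isIso _
  refine ⟨U, n, b, ?_, ⟨v ⁻¹ᵁ W.1, hV⟩, hyW, ?_, rs.map (v.app W.1).hom, by rw [List.length_map, hlen], ?_, ?_⟩
  · rw [← hv]; exact hyU
  · exact MorphismProperty.of_isPullback (P := @IsClosedImmersion) (isPullback_morphismRestrict j _).flip hj
  · exact RelDivLib.seq_flat (v.app W.1).hom (RingHom.Flat.of_bijective hbij) .koszul (by simp) hreg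
  · rw [← Ideal.map_ofList, ← hker]
    ext z
    rw [Ideal.mem_map_iff_of_surjective _ hbij.2]
    constructor
    · intro hz
      obtain ⟨w, rfl⟩ := hbij.2 z
      exact ⟨w, RingHom.mem_ker.2 hz, rfl⟩
    · rintro ⟨w, hw, rfl⟩
      exact RingHom.mem_ker.1 hw

end Groth.Agent.BlowBundleLib
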