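import Groth.Agent.ProjBundleLib.Factor
import Groth.Agent.BlowChartLib.Scheme
import Groth.Agent.BlowBCLib.Chart
import Groth.Agent.OmegaAffLib.Ideal
import Groth.Agent.S8914
import Groth.Agent.ParaFLib.Stalk
import Groth.Agent.RelDivLib.FlatSeq

/-!
# The map of a blow-up to the projective bundle, on the standard opens
-/

set_option autoImplicit false
set_option linter.style.haveILetI false
set_option backward.isDefEq.respectTransparency false

universe u

open CategoryTheory CategoryTheory.Limits AlgebraicGeometry TopologicalSpace Opposite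
open Groth.Agent.ParaFLib Groth.Agent.ProjBundleLib Groth.Agent.BlowChartLib

noncomputable section

namespace Groth.Agent.BlowBundleLib

variable {X X' : Scheme.{u}} {E : X.Modules}

/-- The value of a form on a section. -/
def uval (u : E ⟶ Coh.structureModule X) (U : X.Opens) (e : Γ(E, U)) : Γ(X, U) := u.app U e

theorem res_f (f : X' ⟶ X) {U : X.Opens} {V : X'.Opens} (h : V ≤ f ⁻¹ᵁ U) (r : Γ(X, U)) :
    X'.presheaf.map (homOfLE h).op (f.app U r) = f.appLE U V h r := rfl

/-- An ideal with a regular generator on an affine open: the ideal module has a basis there, with that value. -/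
theorem exists_gen_val (K : X'.IdealSheafData) (V : X'.affineOpens) {a : Γ(X', V.1)}
    (ha : a ∈ nonZeroDivisors Γ(X', V.1)) (hK : K.ideal V = Ideal.span {a}) :
    ∃ s : Γ(ClSub.idealMod K, V.1), OmegaSh.idealSect K V.1 s = a ∧ Gen V.1 s := by
  obtain ⟨s, hs⟩ := S8914.gen_of_ideal_eq_span K V a ha hK
  obtain ⟨s₀, hs₀⟩ := (OmegaAffLib.mem_range_idealSect K V a).1 (hK ▸ Ideal.mem_span_singleton_self a)
  obtain ⟨c, hc⟩ := (hs V.1 le_rfl).2 s₀
  simp only [ParaFLib.res_self] at hc
  have hd' : OmegaSh.idealSect K V.1 s ∈ K.ideal V := (OmegaAffLib.mem_range_idealSect K V _).2 ⟨s, rfl⟩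
  rw [hK] at hd'
  obtain ⟨d, hd⟩ := Ideal.mem_span_singleton'.1 hd'
  have h1 : (c * d) * a = 1 * a := by
    rw [one_mul, mul_assoc, hd, ← OmegaAffLib.idealSect_smul, hc, hs₀]
  refine ⟨s₀, hs₀, hc ▸ hs.smul (IsUnit.of_mul_eq_one d ((mul_cancel_right_mem_nonZeroDivisors ha).1 h1))⟩

section Value

variable (u : E ⟶ Coh.structureModule X) {f : X' ⟶ X} {J : X.IdealSheafData}
  (s : (Scheme.Modules.pullback f).obj E ⟶ ClSub.idealMod (BlowUp.exceptional f J))

/-- The values of `s` are those of `u`. -/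
def HasVal : Prop := ∀ (U : X.Opens) (e : Γ(E, U)),
  OmegaSh.idealSect (BlowUp.exceptional f J) (f ⁻¹ᵁ U) ((sigma s).app U e) = f.app U (uval u U e)

theorem hasVal_of_eq (hs : s ≫ ClSub.idealModι (BlowUp.exceptional f J) = (Scheme.Modules.pullback f).map u ≫
    ((Scheme.Modules.pullbackPushforwardAdjunction f).homEquiv _ _).symm
      (SheafOfModules.unitToPushforwardObjUnit f.toRingCatSheafHom)) : HasVal u s := by
  intro U e
  have h := congrArg ((Scheme.Modules.pullbackPushforwardAdjunction f).homEquiv E _) hs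
  rw [Adjunction.homEquiv_naturality_right, Adjunction.homEquiv_naturality_left, Equiv.apply_symm_apply] at h
  exact ConcreteCategory.congr_hom (congrArg (fun t => Scheme.Modules.Hom.app t U) h) e

variable {u} {s}

theorem HasVal.res (hs : HasVal u s) (U : X.Opens) (V : X'.Opens) (h : V ≤ f ⁻¹ᵁ U) (e : Γ(E, U)) :
    OmegaSh.idealSect (BlowUp.exceptional f J) V
      ((ClSub.idealMod (BlowUp.exceptional f J)).presheaf.map (homOfLE h).op ((sigma s).app U e)) =
      f.appLE U V h (uval u U e) := by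
  rw [S8914.idealSect_res, hs U e, res_f]

variable (hf : BlowUp.IsBlowUp f J) (U : X.affineOpens)

/-- A section generates the exceptional ideal near a point iff the point lies in its chart. -/
theorem mem_chartOpen_iff (hf : BlowUp.IsBlowUp f J) (hs : HasVal u s) (U : X.affineOpens) (e₀ : Γ(E, U.1))
    (he₀ : uval u U.1 e₀ ∈ J.ideal U) {x : X'} (hx : f x ∈ U.1) :
    x ∈ chartOpen J U (uval u U.1 e₀) f ↔
      Function.Bijective fun c : X'.presheaf.stalk x => c • germφ (sigma s) x hx e₀ := by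
  have hgerm : ∀ (V : X'.Opens) (h : V ≤ f ⁻¹ᵁ U.1) (hxV : x ∈ V),
      (ClSub.idealMod (BlowUp.exceptional f J)).presheaf.germ V x hxV
        ((ClSub.idealMod (BlowUp.exceptional f J)).presheaf.map (homOfLE h).op ((sigma s).app U.1 e₀)) =
      germφ (sigma s) x hx e₀ := fun V h hxV =>
    TopCat.Presheaf.germ_res_apply (ClSub.idealMod (BlowUp.exceptional f J)).presheaf (homOfLE h) x hxV _
  constructor
  · intro hxC
    obtain ⟨⟨V, hV⟩, hxV⟩ := Opens.mem_iSup.1 hxC
    obtain ⟨e, hn, hI⟩ := hV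
    obtain ⟨t, ht, hgen⟩ := exists_gen_val (BlowUp.exceptional f J) V hn hI
    have he : (ClSub.idealMod (BlowUp.exceptional f J)).presheaf.map (homOfLE e).op ((sigma s).app U.1 e₀) = t :=
      OmegaAffLib.idealSect_injective _ V.1 ((hs.res U.1 V.1 e e₀).trans ht.symm)
    rw [← hgerm V.1 e hxV, he]
    exact hgen.bijective_germ x hxV
  · intro hb
    obtain ⟨V, e, hxV, g, hg, hI, hmap⟩ := exists_generator_near J U f hf x hx
    obtain ⟨t, ht, hgen⟩ := exists_gen_val (BlowUp.exceptional f J) V hg hI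
    obtain ⟨c, hc⟩ := (hgen V.1 le_rfl).2
      ((ClSub.idealMod (BlowUp.exceptional f J)).presheaf.map (homOfLE e).op ((sigma s).app U.1 e₀))
    simp only [ParaFLib.res_self] at hc
    have hd : f.appLE U.1 V.1 e (uval u U.1 e₀) = c * g := by
      rw [← hs.res U.1 V.1 e e₀, ← hc, OmegaAffLib.idealSect_smul, ht]
    rw [← hgerm V.1 e hxV, ← hc, germ_smul' x hxV, AmpleLib.bijective_smul_iff (hgen.bijective_germ x hxV)] at hb
    exact Opens.mem_iSup.2 ⟨⟨_, isGood_basicOpen J U (uval u U.1 e₀) f e hg hI hd⟩, (X'.mem_basicOpen c x hxV).2 hb⟩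

end Value

end Groth.Agent.BlowBundleLib
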