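import Groth.Agent.BlowBundleLib.Chart
import Groth.Agent.ProjBundleLib.GrSym
import Groth.Agent.GrassShLib.Proper
import Groth.Agent.CycLib.PB.Transport
import Groth.Prelude.Def_RegImm

/-!
# The blow-up in a Koszul-regular form sits in the projective bundle
-/

set_option autoImplicit false
set_option linter.style.haveILetI false
set_option backward.isDefEq.respectTransparency false

universe u

open CategoryTheory CategoryTheory.Limits AlgebraicGeometry TopologicalSpace Opposite
open Groth.Agent.ParaFLib Groth.Agent.ProjBundleLib Groth.Agent.BlowChartLib Groth.Agent.RegBlowLib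

noncomputable section

namespace Groth.Agent.BlowBundleLib

variable {X X' P : Scheme.{u}} {E : X.Modules} {u : E ⟶ Coh.structureModule X} {J : X.IdealSheafData}
  {p : P ⟶ X} {O1 : P.Modules} {φ : E ⟶ (Scheme.Modules.pushforward p).obj O1}
  {f : X' ⟶ X} {s : (Scheme.Modules.pullback f).obj E ⟶ ClSub.idealMod (BlowUp.exceptional f J)}

theorem germφ_iff_congr (D : PData p E O1 φ) {r : X' ⟶ P} (hc : Compat φ (sigma s) (𝟙 X') r) (U : X.affineOpens)
    (e₀ : Γ(E, U.1)) {x : X'} (hy : p (r x) ∈ U.1) (hx : f x ∈ U.1) :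
    r x ∈ D.DPl U.2 e₀ ↔ Function.Bijective fun c : X'.presheaf.stalk x => c • germφ (sigma s) x hx e₀ :=
  (D.mem_DPl_iff U.2 e₀ hy).trans (hc.2 U.1 e₀ x hy hx).1

/-- On a standard open of a basis the map is a closed immersion cut out by the chart equations. -/
theorem regular_on_DPl (D : PData p E O1 φ) (hf : BlowUp.IsBlowUp f J) (hs : HasVal u s) {r : X' ⟶ P}
    (hc : Compat φ (sigma s) (𝟙 X') r) (U : X.affineOpens) {m : ℕ}
    (b : Module.Basis (Fin (m + 1)) Γ(X, U.1) Γ(E, U.1))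
    (hb : LCI.IsKoszulRegularSeq Γ(X, U.1) (List.ofFn fun k => uval u U.1 (b k)))
    (hI : J.ideal U = Ideal.span (Set.range fun k => uval u U.1 (b k))) (k : Fin (m + 1)) :
    IsClosedImmersion (r ∣_ D.DPl U.2 (b k)) ∧ ∃ rs : List Γ(P, D.DPl U.2 (b k)), rs.length = m ∧
      LCI.IsKoszulRegularSeq Γ(P, D.DPl U.2 (b k)) rs ∧
        RingHom.ker (r.app (D.DPl U.2 (b k))).hom = Ideal.ofList rs ∧
        rs = List.ofFn fun i => baseHom D U.2 (b k) (uval u U.1 (b k)) * D.coord U.2 (b k) (b (k.succAbove i)) -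
          baseHom D U.2 (b k) (uval u U.1 (b (k.succAbove i))) := by
  let fv : Fin (m + 1) → Γ(X, U.1) := fun l => uval u U.1 (b l)
  have ha : ∀ l, fv l ∈ J.ideal U := fun l => hI ▸ Ideal.subset_span ⟨l, rfl⟩
  let W := D.DPl U.2 (b k)
  let C := chartOpen J U (fv k) f
  have hpr : ∀ x, p (r x) = f x := fun x => congrArg (fun t => t x) (hc.1.trans (Category.id_comp f))
  have hWC : r ⁻¹ᵁ W = C := by
    ext x
    have hCle : x ∈ C → f x ∈ U.1 := fun h => by
      obtain ⟨V, hV⟩ := Opens.mem_iSup.1 h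
      exact V.2.choose hV
    constructor
    · intro hx
      have hy : p (r x) ∈ U.1 := D.DPl_le U.2 (b k) hx
      exact (mem_chartOpen_iff hf hs U (b k) (ha k) (hpr x ▸ hy)).2
        ((germφ_iff_congr D hc U (b k) hy _).1 hx)
    · intro hx
      have hfx := hCle hx
      exact (germφ_iff_congr D hc U (b k) (hpr x ▸ hfx) hfx).2 ((mem_chartOpen_iff hf hs U (b k) (ha k) hfx).1 hx)
  obtain ⟨hC, hle, ε, hε⟩ := exists_chart_ring J U (fv k) f (ha k) hf
  obtain ⟨Λ, hΛC, hΛX⟩ := exists_polyEquiv D U.2 b k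
  obtain ⟨Ψ, hΨ, hΨC, hker⟩ := BlowBCLib.exists_chart_pres fv k hb hI
  let θ : Γ(P, W) →+* Γ(X', C) := (r.appLE W C hWC.ge).hom
  have hθB : ∀ a, θ (baseHom D U.2 (b k) a) = f.appLE U.1 C hle a := fun a => by
    show (p.appLE U.1 W (D.DPl_le U.2 (b k)) ≫ r.appLE W C hWC.ge).hom a = _
    rw [Scheme.Hom.appLE_comp_appLE]
    have h : ∀ (g : X' ⟶ X) (_ : g = f) (hg : C ≤ g ⁻¹ᵁ U.1), g.appLE U.1 C hg = f.appLE U.1 C hle := by
      rintro g rfl hg; rfl
    rw [h _ (hc.1.trans (Category.id_comp f)) _]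
  have hθX : ∀ e, θ (D.coord U.2 (b k) e) * f.appLE U.1 C hle (fv k) = f.appLE U.1 C hle (uval u U.1 e) := by
    intro e
    let K := BlowUp.exceptional f J
    let σk := (ClSub.idealMod K).presheaf.map (homOfLE hle).op ((sigma s).app U.1 (b k))
    let σe := (ClSub.idealMod K).presheaf.map (homOfLE hle).op ((sigma s).app U.1 e)
    suffices h : θ (D.coord U.2 (b k) e) • σk = σe by
      have h' := congrArg (OmegaSh.idealSect K C) h
      rw [OmegaAffLib.idealSect_smul] at h'
      rw [show OmegaSh.idealSect K C σk = f.appLE U.1 C hle (fv k) from hs.res U.1 C hle (b k),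
        show OmegaSh.idealSect K C σe = f.appLE U.1 C hle (uval u U.1 e) from hs.res U.1 C hle e] at h'
      exact h'
    refine TopCat.Presheaf.section_ext (⟨(ClSub.idealMod K).presheaf, (ClSub.idealMod K).isSheaf⟩ : TopCat.Sheaf Ab X')
      C _ _ fun x hx => ?_
    show (ClSub.idealMod K).presheaf.germ C x hx _ = (ClSub.idealMod K).presheaf.germ C x hx _
    rw [germ_smul' x hx, show (ClSub.idealMod K).presheaf.germ C x hx σk = germφ (sigma s) x (hle hx) (b k) from
      TopCat.Presheaf.germ_res_apply (ClSub.idealMod K).presheaf (homOfLE hle) x hx _,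
      show (ClSub.idealMod K).presheaf.germ C x hx σe = germφ (sigma s) x (hle hx) e from
      TopCat.Presheaf.germ_res_apply (ClSub.idealMod K).presheaf (homOfLE hle) x hx _]
    have hxW : r x ∈ W := hWC.ge hx
    have hbij := (germφ_iff_congr D hc U (b k) (D.DPl_le U.2 (b k) hxW) (hle hx)).1 hxW
    obtain ⟨c', hc'⟩ := hbij.2 (germφ (sigma s) x (hle hx) e)
    have h1 := (hc.2 U.1 (b k) x (D.DPl_le U.2 (b k) hxW) (hle hx)).2 e _ c' hbij
      (D.germφ_eq U.2 (b k) e hxW).symm hc'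
    rw [Scheme.Hom.stalkMap_id, germ_stalkMap_congr r hWC.ge x hx] at h1
    show X'.presheaf.germ C x hx (θ (D.coord U.2 (b k) e)) • _ = _
    rw [show X'.presheaf.germ C x hx (θ (D.coord U.2 (b k) e)) = c' from h1]
    exact hc'
  have hfac : ε.toRingHom.comp Ψ = θ.comp Λ.toRingHom := by
    refine MvPolynomial.ringHom_ext (fun a => ?_) fun i => ?_
    · show ε (Ψ (MvPolynomial.C a)) = θ (Λ (MvPolynomial.C a))
      rw [hΨC, hε, hΛC, hθB]
    · show ε (Ψ (MvPolynomial.X i)) = θ (Λ (MvPolynomial.X i))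
      rw [hΛX]
      have hn : f.appLE U.1 C hle (fv k) ∈ nonZeroDivisors Γ(X', C) := by
        rw [← hε]
        exact MulEquivClass.map_nonZeroDivisors ε ▸ ⟨_, mem_nonZeroDivisors, rfl⟩
      refine (mul_cancel_right_mem_nonZeroDivisors hn).1 ?_
      rw [hθX, ← hε, ← hε, ← map_mul]
      refine congrArg ε ?_
      have h0 : Ψ (eqn fv k i) = 0 := hker.ge (Ideal.subset_span (List.mem_ofFn.2 ⟨i, rfl⟩))
      rw [eqn, map_sub, map_mul, hΨC, hΨC, sub_eq_zero, mul_comm] at h0
      exact h0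
  have hθ : θ = (ε.toRingHom.comp Ψ).comp Λ.symm.toRingHom := by
    rw [hfac]; exact RingHom.ext fun z => (congrArg θ (Λ.apply_symm_apply z)).symm
  have hθs : Function.Surjective θ := by
    rw [hθ]
    exact (ε.surjective.comp hΨ).comp Λ.symm.surjective
  haveI : IsIso (X'.presheaf.map (homOfLE hWC.ge).op) := by
    have : (homOfLE hWC.ge).op = (eqToHom hWC.symm).op := Subsingleton.elim _ _
    rw [this]; infer_instance
  have hbi : Function.Bijective (X'.presheaf.map (homOfLE hWC.ge).op).hom := ConcreteCategory.bijective_of_isIso _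
  have hθeq : θ = (X'.presheaf.map (homOfLE hWC.ge).op).hom.comp (r.app W).hom := rfl
  have happ : Function.Surjective (r.app W).hom := fun z => by
    obtain ⟨y, hy⟩ := hθs ((X'.presheaf.map (homOfLE hWC.ge).op).hom z)
    exact ⟨y, hbi.1 (by rw [← hy, hθeq]; rfl)⟩
  refine ⟨?_, (List.ofFn (eqn fv k)).map Λ.toRingHom, by simp, ?_, ?_, ?_⟩
  · haveI : IsAffine (W : Scheme.{u}) := D.isAffineOpen_DPl U.2 (b k)
    haveI : IsAffine ((r ⁻¹ᵁ W : X'.Opens) : Scheme.{u}) := hWC ▸ hC
    refine IsClosedImmersion.of_surjective_of_isAffine _ ?_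
    rw [morphismRestrict_appTop]
    exact (ConcreteCategory.bijective_of_isIso (X'.presheaf.map _)).2.comp
      ((show Function.Surjective (r.app (W.ι ''ᵁ ⊤)).hom by rw [Scheme.Opens.ι_image_top]; exact happ))
  · exact RelDivLib.seq_flat Λ.toRingHom (RingHom.Flat.of_bijective Λ.bijective) .koszul (by simp)
      (isKoszulRegularSeq_eqn fv k hb)
  · ext z
    have h1 : z ∈ RingHom.ker (r.app W).hom ↔ θ z = 0 :=
      ⟨fun h => by rw [hθeq, RingHom.comp_apply, RingHom.mem_ker.1 h, map_zero],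
        fun h => RingHom.mem_ker.2 (hbi.1 (by rw [map_zero]; exact h))⟩
    rw [h1, ← Ideal.map_ofList, ← hker, Ideal.mem_map_iff_of_surjective Λ.toRingHom Λ.surjective, hθ]
    constructor
    · intro h
      exact ⟨Λ.symm z, RingHom.mem_ker.2 (ε.injective (h.trans (map_zero ε).symm)), Λ.apply_symm_apply z⟩
    · rintro ⟨w, hw, rfl⟩
      show ε (Ψ (Λ.symm (Λ w))) = 0
      rw [Λ.symm_apply_apply, RingHom.mem_ker.1 hw, map_zero]
  · rw [List.map_ofFn]
    refine congrArg List.ofFn (funext fun i => ?_)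
    show Λ (eqn fv k i) = _
    rw [eqn, map_sub, map_mul, hΛC, hΛC, hΛX]

end Groth.Agent.BlowBundleLib
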